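import Groth.Agent.Lib.DimEqScheme4
import Groth.Agent.Lib.AlgSpRel14.FlatDim

/-!
The dimension formula for an irreducible scheme over an irreducible base.
-/

universe u

open CategoryTheory AlgebraicGeometry Order

set_option backward.isDefEq.respectTransparency.types false

namespace Groth.Agent.DimIrrH1

open EquidimStalk4 FibDim14

variable {X Y : Scheme.{u}}

theorem stalkDim_cl_generic {t : X} (ht : ∀ a : X, t ⤳ a) (w : Cl t) :
    ringKrullDim ((Cl t).presheaf.stalk w) = ringKrullDim (X.presheaf.stalk (clι t w)) := by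
  have hs : Function.Surjective (clι t) := fun a => exists_preimage (ht a)
  rw [ringKrullDim_stalk_eq_coheight, ringKrullDim_stalk_eq_coheight]
  let o : Cl t ≃o X :=
    { toEquiv := ((clι t).isEmbedding.toHomeomorphOfSurjective hs).toEquiv
      map_rel_iff' := fun {a b} => by
        rw [Scheme.le_iff_specializes, Scheme.le_iff_specializes]
        exact (clι t).isEmbedding.isInducing.specializes_iff }
  exact congrArg _ (Order.coheight_orderIso o w).symm

variable [IsLocallyNoetherian Y] (f : X ⟶ Y) [LocallyOfFiniteType f] [IrreducibleSpace X]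

omit [IsLocallyNoetherian Y] in
theorem dim_generic_fibre :
    topologicalKrullDim (f.fiber (f (genericPoint X))) = (rd f (genericPoint X) : WithBot ℕ∞) := by
  rw [VarDim.dim_eq_iSup_sdim (toPt f (f (genericPoint X)))]
  have h0 : rd f (genericPoint X) =
      VarDim.sdim (toPt f (f (genericPoint X))) (f.asFiber (genericPoint X)) := by
    rw [← rd_fiberι, Scheme.Hom.fiberι_asFiber]
  refine le_antisymm (iSup_le fun z => ?_) (h0 ▸ le_iSup_of_le (f.asFiber (genericPoint X)) le_rfl)
  rw [h0]
  by_cases he : f.asFiber (genericPoint X) = z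
  · rw [he]
  · refine le_of_lt ?_
    exact_mod_cast VarDim.sdim_lt_of_specializes (toPt f (f (genericPoint X))) (x := f.asFiber (genericPoint X))
      ((f.fiberι _).isEmbedding.isInducing.specializes_iff.1 (by
        rw [Scheme.Hom.fiberι_asFiber]; exact genericPoint_specializes _)) he

theorem stalkDim_add_rd_le (x : X) :
    ringKrullDim (X.presheaf.stalk x) + (rd f x : WithBot ℕ∞) ≤
      ringKrullDim (Y.presheaf.stalk (f x)) + (rd f (genericPoint X) : WithBot ℕ∞) := by
  obtain ⟨ξ, -, h0, hle⟩ := DimFormula14.exists_stalkDim_add_rd_le f x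
  have : ξ = genericPoint X := by
    rw [ringKrullDim_stalk_eq_coheight, ← WithBot.coe_zero, WithBot.coe_inj, Order.coheight_eq_zero] at h0
    have h1 : ξ ≤ genericPoint X := genericPoint_specializes ξ
    exact (Specializes.antisymm (genericPoint_specializes ξ) (h0 h1)).eq.symm
  rwa [this] at hle

theorem stalkDim_add_rd_eq (x : X) (hdom : ∀ b : Y, f (genericPoint X) ⤳ b)
    (hcat : CAlg.IsUniversallyCatenary (Y.presheaf.stalk (f x))) :
    ringKrullDim (X.presheaf.stalk x) + (rd f x : WithBot ℕ∞) =
      ringKrullDim (Y.presheaf.stalk (f x)) + (rd f (genericPoint X) : WithBot ℕ∞) := by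
  obtain ⟨w, hw⟩ := exists_preimage (t := genericPoint X) (genericPoint_specializes x)
  obtain ⟨v, hv⟩ := exists_preimage (t := f (genericPoint X)) (hdom (f x))
  subst hw
  have h := DimEqScheme4.dim_stalk_cl_eq f w hcat v hv
  rw [stalkDim_cl_generic (fun a => genericPoint_specializes a) w, stalkDim_cl_generic hdom v, hv] at h
  exact h

/-- Over a universally catenary base the dimension is computed on the image. -/
theorem dim_eq (hdom : ∀ b : Y, f (genericPoint X) ⤳ b)
    (hcat : ∀ y : Y, CAlg.IsUniversallyCatenary (Y.presheaf.stalk y)) :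
    topologicalKrullDim X =
      (⨆ x : X, ringKrullDim (Y.presheaf.stalk (f x))) + (rd f (genericPoint X) : WithBot ℕ∞) := by
  refine le_antisymm ?_ (AlgSpRel14.iSup_add_le _ _ _ fun x => ?_)
  · rw [AlgSpRel14.dim_eq_iSup_stalk X]
    refine iSup_le fun x => ?_
    refine le_trans (le_add_of_nonneg_right (b := (rd f x : WithBot ℕ∞)) (by exact_mod_cast Nat.zero_le _)) ?_
    rw [stalkDim_add_rd_eq f x hdom (hcat _)]
    exact add_le_add (le_iSup (fun x => ringKrullDim (Y.presheaf.stalk (f x))) x) le_rfl
  · obtain ⟨x', he, h0⟩ := AlgSpRel14.exists_rd_eq_zero f x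
    have h := stalkDim_add_rd_eq f x' hdom (hcat _)
    rw [h0, Nat.cast_zero, add_zero, he] at h
    rw [← h]
    exact AlgSpRel14.stalkDim_le_dim X x'

theorem dim_le :
    topologicalKrullDim X ≤ topologicalKrullDim Y + (rd f (genericPoint X) : WithBot ℕ∞) := by
  rw [AlgSpRel14.dim_eq_iSup_stalk X]
  refine iSup_le fun x => ?_
  refine le_trans (le_add_of_nonneg_right (b := (rd f x : WithBot ℕ∞)) (by exact_mod_cast Nat.zero_le _)) ?_
  exact (stalkDim_add_rd_le f x).trans (add_le_add (AlgSpRel14.stalkDim_le_dim Y _) le_rfl)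

end Groth.Agent.DimIrrH1
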